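import Cfsg.Agent.BN.Bruhat

/-!
Consequences of the Bruhat decomposition for standard parabolic subgroups; simplicity criterion.
-/

set_option autoImplicit false
set_option linter.style.haveILetI false

namespace CfsgLib.BN

open Cfsg DoubleCoset
open scoped Pointwise commutatorElement

attribute [local instance] torus_normal

variable {G : Type*} [Group G] (P : Cfsg.BNPair G)

theorem inter_parabolic {J : Set G} (hJ : J ⊆ P.S) : P.S ∩ (P.parabolic J : Set G) = J := by
  ext s
  exact ⟨fun h => mem_of_mem_parabolic P hJ h.1 h.2,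
    fun h => ⟨hJ h, Subgroup.mem_sup_right (Subgroup.subset_closure h)⟩⟩

theorem parabolic_injective {J K : Set G} (hJ : J ⊆ P.S) (hK : K ⊆ P.S)
    (h : P.parabolic J = P.parabolic K) : J = K := by
  rw [← inter_parabolic P hJ, h, inter_parabolic P hK]

theorem parabolic_mono {J K : Set G} (h : J ⊆ K) : P.parabolic J ≤ P.parabolic K :=
  sup_le_sup_left (Subgroup.closure_mono h) _

theorem parabolic_inf {J K : Set G} (hJ : J ⊆ P.S) (hK : K ⊆ P.S) :
    P.parabolic J ⊓ P.parabolic K = P.parabolic (J ∩ K) := by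
  rw [eq_parabolic P (le_inf le_sup_left le_sup_left : P.B ≤ P.parabolic J ⊓ P.parabolic K)]
  congr 1
  rw [Subgroup.coe_inf, Set.inter_inter_distrib_left]
  exact congrArg₂ (· ∩ ·) (inter_parabolic P hJ) (inter_parabolic P hK)

theorem cosetOf_eq_iff {n n' : G} (hn : n ∈ P.N) (hn' : n' ∈ P.N) :
    cosetOf P n = cosetOf P n' ↔ n⁻¹ * n' ∈ P.B := by
  rw [← cw_mk P ⟨n, hn⟩, ← cw_mk P ⟨n', hn'⟩, (cw_injective P).eq_iff, QuotientGroup.eq,
    Subgroup.mem_subgroupOf]
  exact ⟨fun h => h.1, fun h => Subgroup.mem_inf.mpr ⟨h, P.N.mul_mem (P.N.inv_mem hn) hn'⟩⟩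

theorem bruhat (g : G) : ∃ n ∈ P.N, g ∈ cosetOf P n := by
  obtain ⟨w, hw⟩ := exists_mem_cw P g
  obtain ⟨n, rfl⟩ := QuotientGroup.mk_surjective w
  exact ⟨n.1, n.2, hw⟩

theorem mem_parabolic_iff' {J : Set G} (hJ : J ⊆ P.S) (g : G) :
    g ∈ P.parabolic J ↔ ∃ n ∈ Subgroup.closure J, g ∈ cosetOf P n := by
  rw [mem_parabolic_iff P hJ]
  constructor
  · rintro ⟨L, hL, hg⟩
    suffices h : ∃ n : P.N, n.1 ∈ Subgroup.closure J ∧ QuotientGroup.mk n = wprod P L by
      obtain ⟨n, hn, e⟩ := h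
      rw [← e, cw_mk] at hg
      exact ⟨n.1, hn, hg⟩
    clear hg
    induction L with
    | nil => exact ⟨1, one_mem _, rfl⟩
    | cons s L ih =>
      obtain ⟨n, hn, e⟩ := ih fun t ht => hL t (List.mem_cons_of_mem _ ht)
      refine ⟨⟨s.1, P.subset s.2⟩ * n,
        mul_mem (Subgroup.subset_closure (hL s (List.mem_cons_self ..))) hn, ?_⟩
      rw [wprod_cons, QuotientGroup.mk_mul, e]
      rfl
  · rintro ⟨n, hn, hg⟩
    have hN : Subgroup.closure J ≤ P.N := (Subgroup.closure_le _).mpr (hJ.trans P.subset)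
    suffices h : ∀ x ∈ Subgroup.closure J, ∀ hx : x ∈ P.N, ∃ L : List P.S,
        (∀ s ∈ L, s.1 ∈ J) ∧ wprod P L = QuotientGroup.mk (⟨x, hx⟩ : P.N) by
      obtain ⟨L, hL, e⟩ := h n hn (hN hn)
      exact ⟨L, hL, by rw [e, cw_mk]; exact hg⟩
    intro x hx
    induction hx using Subgroup.closure_induction with
    | mem y hy => exact fun _ => ⟨[⟨y, hJ hy⟩], by simpa using hy, by simp [wprod, refl]⟩
    | one => exact fun _ => ⟨[], by simp, rfl⟩
    | mul a b ha hb iha ihb =>
      intro _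
      obtain ⟨L, hL, e⟩ := iha (hN ha)
      obtain ⟨L', hL', e'⟩ := ihb (hN hb)
      exact ⟨L ++ L', fun s hs => (List.mem_append.mp hs).elim (hL s) (hL' s),
        by rw [wprod_append, e, e']; rfl⟩
    | inv a ha iha =>
      intro _
      obtain ⟨L, hL, e⟩ := iha (hN ha)
      exact ⟨L.reverse, fun s hs => hL s (List.mem_reverse.mp hs),
        by rw [wprod_reverse, e]; rfl⟩

theorem normalizer_parabolic {J : Set G} (hJ : J ⊆ P.S) :
    Subgroup.normalizer (P.parabolic J : Set G) = P.parabolic J := by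
  refine le_antisymm ?_ Subgroup.le_normalizer
  intro g hg
  obtain ⟨n, hn, hgn⟩ := bruhat P g
  obtain ⟨b, hb, c, hc, rfl⟩ := (mem_cosetOf P).mp hgn
  have hnn : n ∈ Subgroup.normalizer (P.parabolic J : Set G) := by
    have hB : ∀ {x}, x ∈ P.B → x ∈ Subgroup.normalizer (P.parabolic J : Set G) := fun hx =>
      Subgroup.le_normalizer (Subgroup.mem_sup_left hx)
    have := mul_mem (mul_mem (inv_mem (hB hb)) hg) (inv_mem (hB hc))
    convert this using 1
    group
  have : n ∈ P.parabolic J := mem_of_conj_le P le_sup_left ⟨n, hn⟩ fun x hx =>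
    (Subgroup.mem_normalizer_iff.mp hnn x).mp (Subgroup.mem_sup_left hx)
  exact mul_mem (mul_mem (Subgroup.mem_sup_left hb) this) (Subgroup.mem_sup_left hc)

theorem parabolic_conj_eq {J K : Set G} (g : G)
    (h : (P.parabolic J).map (MulAut.conj g).toMonoidHom = P.parabolic K) :
    P.parabolic J = P.parabolic K := by
  obtain ⟨n, hn, hgn⟩ := bruhat P g
  obtain ⟨b, hb, c, hc, rfl⟩ := (mem_cosetOf P).mp hgn
  have key : ∀ x, x ∈ P.parabolic J ↔ n * x * n⁻¹ ∈ P.parabolic K := by
    intro x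
    have hcJ : c ∈ P.parabolic J := Subgroup.mem_sup_left hc
    have hbK : b ∈ P.parabolic K := Subgroup.mem_sup_left hb
    have hx : c⁻¹ * x * c ∈ P.parabolic J ↔ x ∈ P.parabolic J := by
      rw [Subgroup.mul_mem_cancel_right _ hcJ, Subgroup.mul_mem_cancel_left _ (inv_mem hcJ)]
    rw [← hx, ← Subgroup.mem_map_iff_mem (f := (MulAut.conj (b * n * c)).toMonoidHom)
      (MulEquiv.injective _), h]
    simp only [MulEquiv.coe_toMonoidHom, MulAut.conj_apply]
    rw [← Subgroup.mul_mem_cancel_left _ (inv_mem hbK), ← Subgroup.mul_mem_cancel_right _ hbK]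
    group
  have hnK : n ∈ P.parabolic K := mem_of_conj_le P le_sup_left ⟨n, hn⟩ fun x hx =>
    (key x).mp (Subgroup.mem_sup_left hx)
  ext x
  rw [key, Subgroup.mul_mem_cancel_right _ (inv_mem hnK), Subgroup.mul_mem_cancel_left _ hnK]

theorem not_mem_closure_sdiff {s : G} (hs : s ∈ P.S) :
    s ∉ Subgroup.closure (P.S \ {s}) ⊔ (P.B ⊓ P.N) := by
  intro h
  have h1 : s ∈ P.parabolic (P.S \ {s}) :=
    (sup_le le_sup_right (inf_le_left.trans le_sup_left) :
      Subgroup.closure (P.S \ {s}) ⊔ (P.B ⊓ P.N) ≤ P.parabolic (P.S \ {s})) h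
  exact (mem_of_mem_parabolic P Set.sdiff_subset hs h1).2 rfl

theorem sup_conj_eq {n : G} (hn : n ∈ P.N) :
    P.B ⊔ Subgroup.closure {n} = P.B ⊔ P.B.map (MulAut.conj n).toMonoidHom := by
  apply le_antisymm
  · refine sup_le le_sup_left ((Subgroup.closure_le _).mpr (Set.singleton_subset_iff.mpr ?_))
    exact mem_of_conj_le P le_sup_left ⟨n, hn⟩ fun x hx => Subgroup.mem_sup_right ⟨x, hx, rfl⟩
  · refine sup_le le_sup_left ?_
    rintro _ ⟨x, hx, rfl⟩
    exact mul_mem (mul_mem (Subgroup.mem_sup_right (Subgroup.subset_closure rfl))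
      (Subgroup.mem_sup_left hx)) (inv_mem (Subgroup.mem_sup_right (Subgroup.subset_closure rfl)))

theorem wprod_replicate (s : P.S) (L : List P.S) (h : ∀ t ∈ L, t = s) :
    wprod P L = 1 ∨ wprod P L = refl P s := by
  induction L with
  | nil => exact Or.inl rfl
  | cons a L ih =>
    obtain rfl := h a (List.mem_cons_self ..)
    rcases ih fun t ht => h t (List.mem_cons_of_mem _ ht) with e | e
    · exact Or.inr (by rw [wprod_cons, e, mul_one])
    · exact Or.inl (by rw [wprod_cons, e, refl_sq])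

theorem mem_parabolic_singleton {s : G} (hs : s ∈ P.S) (g : G) :
    g ∈ P.parabolic {s} ↔ g ∈ P.B ∨ g ∈ cosetOf P s := by
  constructor
  · intro hg
    obtain ⟨L, hL, hgL⟩ := (mem_parabolic_iff P (Set.singleton_subset_iff.mpr hs) g).mp hg
    rcases wprod_replicate P ⟨s, hs⟩ L (fun t ht => Subtype.ext (hL t ht)) with e | e <;>
      rw [e] at hgL
    · exact Or.inl ((mem_B_iff_cw_one P).mpr hgL)
    · exact Or.inr hgL
  · rintro (h | h)
    · exact Subgroup.mem_sup_left h
    · obtain ⟨b, hb, c, hc, rfl⟩ := (mem_cosetOf P).mp h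
      exact mul_mem (mul_mem (Subgroup.mem_sup_left hb)
        (Subgroup.mem_sup_right (Subgroup.subset_closure rfl))) (Subgroup.mem_sup_left hc)

theorem union_subgroup_iff {n : G} (hn : n ∈ P.N) (hnB : n ∉ P.B) :
    (∃ H : Subgroup G, (H : Set G) = (P.B : Set G) ∪ cosetOf P n) ↔
      ∃ s ∈ P.S, s⁻¹ * n ∈ P.B := by
  constructor
  · rintro ⟨H, hH⟩
    have hB : P.B ≤ H := fun x hx => by rw [← SetLike.mem_coe, hH]; exact Or.inl hx
    have hnH : n ∈ H := by rw [← SetLike.mem_coe, hH]; exact Or.inr (self_mem_cosetOf P n)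
    have hne : (P.S ∩ (H : Set G)).Nonempty := by
      rw [Set.nonempty_iff_ne_empty]
      intro he
      apply hnB
      rw [eq_parabolic P hB, he] at hnH
      simpa [Cfsg.BNPair.parabolic] using hnH
    obtain ⟨s, hs, hsH⟩ := hne
    rw [SetLike.mem_coe, ← SetLike.mem_coe, hH] at hsH
    rcases hsH with h | h
    · exact absurd h (not_mem_B P ⟨s, hs⟩)
    · exact ⟨s, hs, (cosetOf_eq_iff P (P.subset hs) hn).mp (cosetOf_eq_of_mem P h)⟩
  · rintro ⟨s, hs, h⟩
    refine ⟨P.parabolic {s}, ?_⟩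
    ext g
    rw [← (cosetOf_eq_iff P (P.subset hs) hn).mpr h, SetLike.mem_coe,
      mem_parabolic_singleton P hs]
    rfl

theorem rank_one_elems (h : P.rank = 1) : ∃ s ∈ P.S, ∀ g : G, g ∈ P.B ∨ g ∈ cosetOf P s := by
  obtain ⟨a, ha⟩ := Nat.card_eq_one_iff_exists.mp h
  refine ⟨a.1, a.2, fun g => (mem_parabolic_singleton P a.2 g).mp ?_⟩
  have : P.S = {a.1} := Set.eq_singleton_iff_unique_mem.mpr
    ⟨a.2, fun x hx => congrArg Subtype.val (ha ⟨x, hx⟩)⟩
  rw [← this, parabolic_univ]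
  trivial

theorem two_transitive (h : P.rank = 1) : MulAction.IsMultiplyPretransitive G (G ⧸ P.B) 2 := by
  obtain ⟨s, hs, hall⟩ := rank_one_elems P h
  rw [MulAction.is_two_pretransitive_iff]
  suffices key : ∀ x y : G ⧸ P.B, x ≠ y → ∃ g : G,
      g • QuotientGroup.mk 1 = x ∧ g • QuotientGroup.mk s = y by
    intro a b c d hab hcd
    obtain ⟨g, g1, g2⟩ := key a b hab
    obtain ⟨k, k1, k2⟩ := key c d hcd
    refine ⟨k * g⁻¹, ?_, ?_⟩ <;> rw [mul_smul]
    · rw [← g1, inv_smul_smul, k1]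
    · rw [← g2, inv_smul_smul, k2]
  intro x y hxy
  obtain ⟨g, rfl⟩ := QuotientGroup.mk_surjective x
  obtain ⟨g', rfl⟩ := QuotientGroup.mk_surjective y
  rcases hall (g⁻¹ * g') with h | h
  · exact absurd (QuotientGroup.eq.mpr h) hxy
  · obtain ⟨b, hb, c, hc, e⟩ := (mem_cosetOf P).mp h
    refine ⟨g * b, ?_, ?_⟩
    · rw [MulAction.Quotient.smul_mk, smul_eq_mul, mul_one]
      exact QuotientGroup.eq.mpr (by simpa using inv_mem hb)
    · rw [MulAction.Quotient.smul_mk, smul_eq_mul]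
      refine QuotientGroup.eq.mpr ?_
      have : (g * b * s)⁻¹ * g' = c := by
        calc (g * b * s)⁻¹ * g' = s⁻¹ * b⁻¹ * (g⁻¹ * g') := by group
        _ = s⁻¹ * b⁻¹ * (b * s * c) := by rw [e]
        _ = c := by group
      rwa [this]

/-- Tits' simplicity criterion. -/
theorem isSimpleGroup [Nontrivial G] (hirr : P.Irreducible) (hsolv : Group.IsSolvable P.B)
    (hperf : commutator G = ⊤) (hcore : P.B.normalCore = ⊥) : IsSimpleGroup G := by
  refine ⟨fun K hK => ?_⟩
  set M := P.B ⊔ K with hMdef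
  have hM : P.B ≤ M := le_sup_left
  set J := P.S ∩ (M : Set G) with hJdef
  have hMJ : M = P.parabolic J := eq_parabolic P hM
  rcases J.eq_empty_or_nonempty with hJ | hJ
  · left
    have : K ≤ P.B := by
      have h1 : K ≤ M := le_sup_right
      rw [hMJ, hJ] at h1
      simpa [Cfsg.BNPair.parabolic] using h1
    rw [eq_bot_iff, ← hcore]
    exact Subgroup.normal_le_normalCore.mpr this
  rcases (P.S \ J).eq_empty_or_nonempty with hd | hd
  · right
    have htop : M = ⊤ := by
      have hJS : J = P.S :=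
        Set.eq_of_subset_of_subset Set.inter_subset_left (Set.sdiff_eq_empty.mp hd)
      rw [hMJ, hJS, parabolic_univ]
    haveI := hsolv
    have hsurj : Function.Surjective ((QuotientGroup.mk' K).comp P.B.subtype) := by
      intro x
      obtain ⟨g, rfl⟩ := QuotientGroup.mk'_surjective K x
      have hg : g ∈ P.B ⊔ K := by rw [← hMdef, htop]; trivial
      obtain ⟨b, hb, k, hk, rfl⟩ := Subgroup.mem_sup_of_normal_right.mp hg
      exact ⟨⟨b, hb⟩, by
        simp only [MonoidHom.comp_apply, Subgroup.coe_subtype, QuotientGroup.mk'_apply]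
        rw [QuotientGroup.eq]
        simpa using hk⟩
    haveI hsol : Group.IsSolvable (G ⧸ K) := Group.isSolvable_of_surjective hsurj
    by_contra hne
    haveI : Nontrivial (G ⧸ K) := by
      by_contra hnt
      rw [not_nontrivial_iff_subsingleton] at hnt
      exact hne (eq_top_iff.mpr fun g _ => (QuotientGroup.eq_one_iff g).mp (Subsingleton.elim _ _))
    refine (Group.IsSolvable.commutator_lt_top_of_nontrivial (G ⧸ K)).ne ?_
    rw [← Subgroup.map_top_of_surjective _ (QuotientGroup.mk'_surjective K), ← hperf,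
      commutator_def, commutator_def, Subgroup.map_commutator,
      Subgroup.map_top_of_surjective _ (QuotientGroup.mk'_surjective K)]
  · exfalso
    obtain ⟨s, hsJ, t, ht, hst⟩ := hirr J Set.inter_subset_left hJ hd
    have hs : s ∈ P.S := hsJ.1
    have htM : t ∉ M := fun h => ht.2 ⟨ht.1, h⟩
    set σ := refl P ⟨s, hs⟩ with hσ
    set τ := refl P ⟨t, ht.1⟩ with hτ
    obtain ⟨k, hk, hks⟩ : ∃ k ∈ K, k ∈ cw P σ := by
      obtain ⟨b, hb, k, hk, e⟩ := Subgroup.mem_sup_of_normal_right.mp (hsJ.2 : s ∈ P.B ⊔ K)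
      refine ⟨k, hk, ?_⟩
      have h1 : k = b⁻¹ * s := by rw [← e, inv_mul_cancel_left]
      rw [h1]
      exact mem_cw_left P (inv_mem hb) (s_mem_cw P ⟨s, hs⟩)
    have hconj : t * k * t⁻¹ ∈ M := Subgroup.mem_sup_right (hK.conj_mem k hk t)
    rw [hMJ] at hconj
    obtain ⟨L, hL, hmem⟩ := (mem_parabolic_iff P Set.inter_subset_left _).mp hconj
    obtain ⟨n, hn⟩ := QuotientGroup.mk_surjective (wprod P L)
    have hnot : ∀ L' : List P.S, (∀ s ∈ L', s.1 ∈ J) → τ * σ ≠ wprod P L' := by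
      intro L' hL' e
      apply htM
      have : t * s ∈ P.parabolic J := (mem_parabolic_iff P Set.inter_subset_left _).mpr
        ⟨L', hL', by
          rw [← e, hτ, hσ, refl, refl, ← QuotientGroup.mk_mul]; exact self_mem_cosetOf P _⟩
      rw [← hMJ] at this
      exact (Subgroup.mul_mem_cancel_right _ hsJ.2).mp this
    have hτs : τ * σ ≠ 1 := fun e => hnot [] (by simp) e
    have hle : len P σ ≤ 1 := by simpa [wprod, hσ] using len_le P [⟨s, hs⟩]
    have h2 : len P σ ≤ len P (τ * σ) := by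
      rcases Nat.eq_zero_or_pos (len P (τ * σ)) with h0 | h0
      · exact absurd (eq_one_of_len P h0) hτs
      · omega
    have htk : t * k ∈ cw P (τ * σ) :=
      mul_of_len_ge P ⟨t, ht.1⟩ _ σ le_rfl h2 _ (s_mem_cw P _) _ hks
    have htinv : t⁻¹ ∈ cw P τ := by
      have := inv_mem_cw P (s_mem_cw P ⟨t, ht.1⟩); rwa [refl_inv] at this
    rcases refl_mul_cw P htk htinv with h3 | h3
    swap
    · exact hnot L hL (eq_of_mem P h3 hmem)
    have e : τ * σ * τ = wprod P L := eq_of_mem P h3 hmem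
    -- a reduced word of `τ σ τ` has letters in `J`
    obtain ⟨R, hR, hRe, hRl⟩ := exists_reduced_mem P L hL
    rw [← hRe] at e
    have hl3 : len P (τ * σ * τ) ≠ 3 := by
      intro h3'
      have e' : τ * σ * τ = wprod P [⟨t, ht.1⟩, ⟨s, hs⟩, ⟨t, ht.1⟩] := by
        simp [wprod, hσ, hτ, mul_assoc]
      obtain ⟨m, hm⟩ := QuotientGroup.mk_surjective (τ * σ * τ)
      have hmM : m.1 ∈ M := by
        rw [hMJ]
        refine (mem_parabolic_iff P Set.inter_subset_left _).mpr ⟨R, hR, ?_⟩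
        rw [← e, ← hm]; exact self_mem_cosetOf P _
      have := (letters_mem P hM _ m (by rw [hm, e']) (by rw [← e']; exact h3')
        (fun x hx => mul_mem (mul_mem hmM (hM hx)) (inv_mem hmM))).1 ⟨t, ht.1⟩
        (List.mem_cons_self ..)
      exact htM this
    -- exchange
    set w := wprod P [⟨s, hs⟩, ⟨t, ht.1⟩] with hw
    have hwe : w = σ * τ := by simp [hw, wprod, hσ, hτ]
    have hwl : len P w = 2 := by
      have h1 : len P w ≤ 2 := len_le P [⟨s, hs⟩, ⟨t, ht.1⟩]
      rcases Nat.lt_or_ge (len P w) 2 with h | h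
      · exfalso
        have h5 := len_refl_mul_ne P ⟨s, hs⟩ w
        rw [hwe, ← hσ, ← mul_assoc, hσ, refl_sq, one_mul, ← hσ, ← hwe] at h5
        have h6 : len P τ ≤ 1 := by simpa [wprod, hτ] using len_le P [⟨t, ht.1⟩]
        have h7 : len P τ ≠ 0 := fun h => refl_ne_one P _ (eq_one_of_len P h)
        have h8 : len P w ≠ 0 := fun h' => by
          have h9 := eq_one_of_len P h'
          rw [hwe, mul_eq_one_iff_inv_eq, hσ, refl_inv, hτ] at h9
          have h10 : s = t := congrArg Subtype.val (refl_injective P h9)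
          exact htM (h10 ▸ hsJ.2)
        omega
      · omega
    have h4 : len P (τ * w) < 2 := by
      have h1 := len_refl_mul_ne P ⟨t, ht.1⟩ w
      have h2' := len_refl_mul_le P ⟨t, ht.1⟩ w
      rw [← hτ, hwe, ← mul_assoc] at h1 h2'
      rw [hwe, ← mul_assoc]
      rw [← hwe] at h1 h2'
      omega
    obtain ⟨i, hi, he⟩ := exchange P ⟨t, ht.1⟩ [⟨s, hs⟩, ⟨t, ht.1⟩] hwl h4
    rw [← hw, ← hτ, hwe] at he
    have hi' : i = 0 ∨ i = 1 := by simp only [List.length_cons, List.length_nil] at hi; omega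
    rcases hi' with rfl | rfl
    · simp only [List.eraseIdx_cons_zero, wprod_cons, wprod_nil, mul_one, ← hτ] at he
      rw [← mul_assoc] at he
      exact hτs (mul_eq_right.mp he)
    · simp only [List.eraseIdx_cons_succ, List.eraseIdx_cons_zero, wprod_cons, wprod_nil,
        mul_one, ← hσ] at he
      apply hst
      have h9 : σ * τ * σ⁻¹ * τ⁻¹ = 1 := by
        rw [hσ, hτ, refl_inv, refl_inv, ← hσ, ← hτ]
        calc σ * τ * σ * τ = σ * (τ * (σ * τ)) := by group
        _ = 1 := by rw [he, hσ, refl_sq]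
      rw [hσ, hτ, refl, refl, ← QuotientGroup.mk_inv, ← QuotientGroup.mk_inv,
        ← QuotientGroup.mk_mul, ← QuotientGroup.mk_mul, ← QuotientGroup.mk_mul,
        QuotientGroup.eq_one_iff, Subgroup.mem_subgroupOf] at h9
      exact h9.1

end CfsgLib.BN
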