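import Cfsg.Prelude.Def_LieExceptional

/-!
Tits systems: Bruhat decomposition, exchange condition, parabolic subgroups.
-/

set_option autoImplicit false
set_option linter.style.haveILetI false

namespace CfsgLib.BN

open Cfsg DoubleCoset
open scoped Pointwise

variable {G : Type*} [Group G] (P : Cfsg.BNPair G)

/-- The torus `B ⊓ N` inside `N`. -/
abbrev torus : Subgroup P.N := (P.B ⊓ P.N).subgroupOf P.N

theorem torus_normal : (torus P).Normal :=
  ⟨fun t ht n => by
    simp only [torus, Subgroup.mem_subgroupOf, Subgroup.mem_inf] at ht ⊢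
    exact ⟨P.conj_mem n.1 n.2 t.1 ht, (n * t * n⁻¹ : P.N).2⟩⟩

attribute [local instance] torus_normal

/-- The Weyl group. -/
abbrev Weyl : Type _ := P.N ⧸ torus P

/-- The double coset of an element of `G`. -/
def cosetOf (g : G) : Set G := DoubleCoset.doubleCoset g (P.B : Set G) P.B

theorem mem_cosetOf {g x : G} : x ∈ cosetOf P g ↔ ∃ b ∈ P.B, ∃ c ∈ P.B, x = b * g * c :=
  DoubleCoset.mem_doubleCoset

theorem self_mem_cosetOf (g : G) : g ∈ cosetOf P g :=
  (mem_cosetOf P).mpr ⟨1, one_mem _, 1, one_mem _, by group⟩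

theorem cosetOf_eq_of_mem {g x : G} (h : x ∈ cosetOf P g) : cosetOf P x = cosetOf P g :=
  DoubleCoset.doubleCoset_eq_of_mem h

/-- The double coset attached to an element of the Weyl group. -/
def cw : Weyl P → Set G :=
  Quotient.lift (fun n : P.N => cosetOf P n.1) fun a b h => by
    have h' : (a⁻¹ * b : P.N) ∈ torus P := QuotientGroup.leftRel_apply.mp h
    simp only [torus, Subgroup.mem_subgroupOf, Subgroup.mem_inf] at h'
    refine (cosetOf_eq_of_mem P ((mem_cosetOf P).mpr ⟨1, one_mem _, _, h'.1, ?_⟩)).symm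
    simp only [Subgroup.coe_mul, Subgroup.coe_inv]
    group

theorem cw_mk (n : P.N) : cw P (QuotientGroup.mk n) = cosetOf P n.1 := rfl

/-- The simple reflection of a distinguished representative. -/
def refl (s : P.S) : Weyl P := QuotientGroup.mk (⟨s.1, P.subset s.2⟩ : P.N)

/-- Product of a word. -/
def wprod (L : List P.S) : Weyl P := (L.map (refl P)).prod

theorem refl_sq (s : P.S) : refl P s * refl P s = 1 := by
  rw [refl, ← QuotientGroup.mk_mul, QuotientGroup.eq_one_iff, Subgroup.mem_subgroupOf]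
  exact ⟨P.sq_mem s.1 s.2, mul_mem (P.subset s.2) (P.subset s.2)⟩

theorem refl_inv (s : P.S) : (refl P s)⁻¹ = refl P s :=
  inv_eq_of_mul_eq_one_right (refl_sq P s)

theorem inv_mem_B_mul {s : G} (hs : s ∈ P.S) : s⁻¹ = s * (s * s)⁻¹ := by group

theorem not_mem_B (s : P.S) : s.1 ∉ P.B := by
  intro hs
  apply P.conj_ne s.1 s.2
  ext x
  constructor
  · rintro ⟨b, hb, rfl⟩; exact mul_mem (mul_mem hs hb) hs
  · intro hx
    exact ⟨s.1⁻¹ * x * s.1⁻¹, mul_mem (mul_mem (inv_mem hs) hx) (inv_mem hs), by group⟩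

theorem refl_ne_one (s : P.S) : refl P s ≠ 1 := by
  rw [refl, Ne, QuotientGroup.eq_one_iff, Subgroup.mem_subgroupOf]
  exact fun h => not_mem_B P s h.1

theorem refl_injective : Function.Injective (refl P) := by
  intro s t h
  rw [refl, refl, QuotientGroup.eq, Subgroup.mem_subgroupOf] at h
  exact Subtype.ext (P.inj s.1 s.2 t.1 t.2 h.1)

theorem wprod_nil : wprod P [] = 1 := rfl

theorem wprod_cons (s : P.S) (L : List P.S) : wprod P (s :: L) = refl P s * wprod P L := by
  simp [wprod]

theorem wprod_append (L L' : List P.S) : wprod P (L ++ L') = wprod P L * wprod P L' := by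
  simp [wprod]

theorem wprod_reverse (L : List P.S) : wprod P L.reverse = (wprod P L)⁻¹ := by
  induction L with
  | nil => simp [wprod]
  | cons s L ih => simp [wprod_cons, wprod_append, ih, wprod_nil, refl_inv]

theorem exists_word (w : Weyl P) : ∃ L : List P.S, wprod P L = w := by
  obtain ⟨⟨n, hn⟩, rfl⟩ := QuotientGroup.mk_surjective w
  have hn' : n ∈ Subgroup.closure P.S ⊔ (P.B ⊓ P.N) := by rw [P.closure_sup]; exact hn
  rw [← Subgroup.closure_eq (P.B ⊓ P.N), ← Subgroup.closure_union] at hn'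
  suffices h : ∀ x ∈ Subgroup.closure (P.S ∪ (P.B ⊓ P.N : Subgroup G)), ∀ hx : x ∈ P.N,
      ∃ L : List P.S, wprod P L = QuotientGroup.mk (⟨x, hx⟩ : P.N) from h n hn' hn
  intro x hx
  have hle : Subgroup.closure (P.S ∪ (P.B ⊓ P.N : Subgroup G)) ≤ P.N :=
    (Subgroup.closure_le _).mpr (Set.union_subset P.subset fun _ h => h.2)
  induction hx using Subgroup.closure_induction with
  | mem y hy =>
    intro hy'
    rcases hy with hy | hy
    · exact ⟨[⟨y, hy⟩], by simp [wprod, refl]⟩
    · refine ⟨[], ((QuotientGroup.eq_one_iff _).mpr ?_).symm⟩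
      rw [Subgroup.mem_subgroupOf]; exact hy
  | one => intro h; exact ⟨[], rfl⟩
  | mul a b ha hb iha ihb =>
    intro h
    obtain ⟨L, hL⟩ := iha (hle ha)
    obtain ⟨L', hL'⟩ := ihb (hle hb)
    exact ⟨L ++ L', by rw [wprod_append, hL, hL']; rfl⟩
  | inv a ha iha =>
    intro h
    obtain ⟨L, hL⟩ := iha (hle ha)
    exact ⟨L.reverse, by rw [wprod_reverse, hL]; rfl⟩

theorem mem_cw_left {x b : G} {w : Weyl P} (hb : b ∈ P.B) (hx : x ∈ cw P w) : b * x ∈ cw P w := by
  obtain ⟨n, rfl⟩ := QuotientGroup.mk_surjective w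
  rw [cw_mk, mem_cosetOf] at hx ⊢
  obtain ⟨c, hc, d, hd, rfl⟩ := hx
  exact ⟨b * c, mul_mem hb hc, d, hd, by group⟩

theorem mem_cw_right {x b : G} {w : Weyl P} (hb : b ∈ P.B) (hx : x ∈ cw P w) : x * b ∈ cw P w := by
  obtain ⟨n, rfl⟩ := QuotientGroup.mk_surjective w
  rw [cw_mk, mem_cosetOf] at hx ⊢
  obtain ⟨c, hc, d, hd, rfl⟩ := hx
  exact ⟨c, hc, d * b, mul_mem hd hb, by group⟩

theorem inv_mem_cw {x : G} {w : Weyl P} (hx : x ∈ cw P w) : x⁻¹ ∈ cw P w⁻¹ := by
  obtain ⟨n, rfl⟩ := QuotientGroup.mk_surjective w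
  rw [← QuotientGroup.mk_inv, cw_mk, mem_cosetOf]
  rw [cw_mk, mem_cosetOf] at hx
  obtain ⟨c, hc, d, hd, rfl⟩ := hx
  exact ⟨d⁻¹, inv_mem hd, c⁻¹, inv_mem hc, by simp [mul_assoc]⟩

theorem mem_B_iff_cw_one {x : G} : x ∈ P.B ↔ x ∈ cw P 1 := by
  rw [← QuotientGroup.mk_one, cw_mk, mem_cosetOf]
  constructor
  · intro hx; exact ⟨x, hx, 1, one_mem _, by simp⟩
  · rintro ⟨b, hb, c, hc, rfl⟩; simpa using mul_mem hb hc

theorem s_mem_cw (s : P.S) : s.1 ∈ cw P (refl P s) := self_mem_cosetOf P _

theorem cw_nonempty (w : Weyl P) : (cw P w).Nonempty := by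
  obtain ⟨n, rfl⟩ := QuotientGroup.mk_surjective w
  exact ⟨n.1, self_mem_cosetOf P _⟩

theorem cw_eq_of_inter {x : G} {w w' : Weyl P} (h : x ∈ cw P w) (h' : x ∈ cw P w') :
    cw P w = cw P w' := by
  obtain ⟨n, rfl⟩ := QuotientGroup.mk_surjective w
  obtain ⟨n', rfl⟩ := QuotientGroup.mk_surjective w'
  simp only [cw_mk] at *
  rw [← cosetOf_eq_of_mem P h, ← cosetOf_eq_of_mem P h']

theorem mul_cw_refl {x y : G} {s : P.S} {w : Weyl P} (hx : x ∈ cw P (refl P s)) (hy : y ∈ cw P w) :
    x * y ∈ cw P (refl P s * w) ∨ x * y ∈ cw P w := by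
  obtain ⟨n, rfl⟩ := QuotientGroup.mk_surjective w
  obtain ⟨b, hb, c, hc, rfl⟩ := (mem_cosetOf P).mp hx
  obtain ⟨d, hd, e, he, rfl⟩ := (mem_cosetOf P).mp hy
  have := P.mul_mem_union s.1 s.2 n.1 n.2 (c * d) (mul_mem hc hd)
  have he1 : b * s.1 * c * (d * n.1 * e) = b * (s.1 * (c * d) * n.1) * e := by group
  rw [he1]
  rcases this with h | h
  · left
    rw [refl, ← QuotientGroup.mk_mul]
    exact mem_cw_right P he (mem_cw_left P hb h)
  · exact Or.inr (mem_cw_right P he (mem_cw_left P hb h))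

theorem refl_mul_cw {x y : G} {s : P.S} {w : Weyl P} (hx : x ∈ cw P w) (hy : y ∈ cw P (refl P s)) :
    x * y ∈ cw P (w * refl P s) ∨ x * y ∈ cw P w := by
  have h1 := inv_mem_cw P hy
  rw [refl_inv] at h1
  rcases mul_cw_refl P h1 (inv_mem_cw P hx) with h | h <;> have h2 := inv_mem_cw P h
  · exact Or.inl (by simpa [refl_inv] using h2)
  · exact Or.inr (by simpa using h2)

/-- The length of an element of the Weyl group. -/
noncomputable def len (w : Weyl P) : ℕ :=
  sInf {k | ∃ L : List P.S, wprod P L = w ∧ L.length = k}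

theorem exists_reduced (w : Weyl P) : ∃ L : List P.S, wprod P L = w ∧ L.length = len P w := by
  obtain ⟨L, hL⟩ := exists_word P w
  exact Nat.sInf_mem (s := {k | ∃ L : List P.S, wprod P L = w ∧ L.length = k}) ⟨_, L, hL, rfl⟩

theorem len_le (L : List P.S) : len P (wprod P L) ≤ L.length := Nat.sInf_le ⟨L, rfl, rfl⟩

theorem len_refl_mul_le (s : P.S) (w : Weyl P) : len P (refl P s * w) ≤ len P w + 1 := by
  obtain ⟨L, rfl, hl⟩ := exists_reduced P w
  have := len_le P (s :: L)
  rw [wprod_cons] at this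
  rw [← hl]
  exact this

theorem len_one : len P 1 = 0 := Nat.le_zero.mp (len_le P [])

theorem eq_one_of_len {w : Weyl P} (h : len P w = 0) : w = 1 := by
  obtain ⟨L, hL, hl⟩ := exists_reduced P w
  rw [h, List.length_eq_zero_iff] at hl
  subst hl
  exact hL.symm

theorem len_inv (w : Weyl P) : len P w⁻¹ = len P w := by
  refine le_antisymm ?_ ?_
  · obtain ⟨L, rfl, hl⟩ := exists_reduced P w
    have := len_le P L.reverse
    rwa [wprod_reverse, List.length_reverse, hl] at this
  · obtain ⟨L, hL, hl⟩ := exists_reduced P w⁻¹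
    have := len_le P L.reverse
    rwa [wprod_reverse, hL, inv_inv, List.length_reverse, hl] at this

/-- Uniqueness in the Bruhat decomposition. -/
theorem cw_injective : Function.Injective (cw P) := by
  suffices h : ∀ k, ∀ w w' : Weyl P, len P w ≤ k → len P w ≤ len P w' → cw P w = cw P w' → w = w' by
    intro w w' e
    rcases le_total (len P w) (len P w') with hl | hl
    · exact h _ w w' le_rfl hl e
    · exact (h _ w' w le_rfl hl e.symm).symm
  intro k
  induction k with
  | zero =>
    intro w w' hk _ e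
    obtain rfl := eq_one_of_len P (Nat.le_zero.mp hk)
    obtain ⟨n, rfl⟩ := QuotientGroup.mk_surjective w'
    have h : n.1 ∈ cw P 1 := by rw [e]; exact self_mem_cosetOf P _
    exact ((QuotientGroup.eq_one_iff n).mpr (Subgroup.mem_subgroupOf.mpr
      (Subgroup.mem_inf.mpr ⟨(mem_B_iff_cw_one P).mpr h, n.2⟩))).symm
  | succ k ih =>
    intro w w' hk hle e
    obtain ⟨L, hL, hl⟩ := exists_reduced P w
    rcases L with - | ⟨s, L⟩
    · exact ih w w' (by simp at hl; omega) hle e
    rw [wprod_cons] at hL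
    set u := wprod P L with hu_def
    have hu : len P u ≤ L.length := len_le P L
    simp only [List.length_cons] at hl
    obtain ⟨n, hn⟩ := QuotientGroup.mk_surjective u
    have h1 : s.1 * n.1 ∈ cw P w' := by
      rw [← e, ← hL, ← hn, refl, ← QuotientGroup.mk_mul]
      exact self_mem_cosetOf P _
    have hsinv : s.1⁻¹ ∈ cw P (refl P s) := by
      have := inv_mem_cw P (s_mem_cw P s); rwa [refl_inv] at this
    have hnu : n.1 ∈ cw P u := by rw [← hn]; exact self_mem_cosetOf P _
    rcases mul_cw_refl P hsinv h1 with h | h <;> rw [inv_mul_cancel_left] at h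
    · have := ih u (refl P s * w') (by omega) (by
        have := len_refl_mul_le P s (refl P s * w')
        rw [← mul_assoc, refl_sq, one_mul] at this
        omega) (cw_eq_of_inter P hnu h)
      rw [← hL, this, ← mul_assoc, refl_sq, one_mul]
    · have := ih u w' (by omega) (by omega) (cw_eq_of_inter P hnu h)
      rw [this] at hu
      omega

theorem eq_of_mem {x : G} {w w' : Weyl P} (h : x ∈ cw P w) (h' : x ∈ cw P w') : w = w' :=
  cw_injective P (cw_eq_of_inter P h h')

/-- `C(s) C(w) ⊆ C(sw)` when the length does not drop. -/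
theorem mul_of_len_ge (s : P.S) : ∀ (k : ℕ) (w : Weyl P), len P w ≤ k →
    len P w ≤ len P (refl P s * w) →
    ∀ x ∈ cw P (refl P s), ∀ y ∈ cw P w, x * y ∈ cw P (refl P s * w) := by
  intro k
  induction k with
  | zero =>
    intro w hk _ x hx y hy
    obtain rfl := eq_one_of_len P (Nat.le_zero.mp hk)
    rw [mul_one]
    exact mem_cw_right P ((mem_B_iff_cw_one P).mpr hy) hx
  | succ k ih =>
    intro w hk hle x hx y hy
    obtain ⟨L, hL, hl⟩ := exists_reduced P w
    rcases List.eq_nil_or_concat L with rfl | ⟨L, t, rfl⟩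
    · exact ih w (by simp at hl; omega) hle x hx y hy
    rw [List.concat_eq_append, List.length_append, List.length_singleton] at hl
    rw [List.concat_eq_append, wprod_append, wprod_cons, wprod_nil, mul_one] at hL
    set u := wprod P L with hu_def
    have hu : len P u ≤ L.length := len_le P L
    obtain ⟨L', hL', hl'⟩ := exists_reduced P (refl P s * u)
    have hlen : len P (refl P s * w) ≤ len P (refl P s * u) + 1 := by
      have := len_le P (L' ++ [t])
      rw [wprod_append, wprod_cons, wprod_nil, mul_one, hL', mul_assoc, hL,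
        List.length_append, List.length_singleton, hl'] at this
      exact this
    rcases mul_cw_refl P hx hy with h | h
    · exact h
    exfalso
    obtain ⟨n, hn⟩ := QuotientGroup.mk_surjective u
    obtain ⟨b, hb, c, hc, rfl⟩ : ∃ b ∈ P.B, ∃ c ∈ P.B, y = b * (n.1 * t.1) * c := by
      rw [← hL, ← hn, refl, ← QuotientGroup.mk_mul] at hy
      exact (mem_cosetOf P).mp hy
    have h1 : x * (b * n.1) ∈ cw P (refl P s * u) := by
      refine ih u (by omega) (by omega) x hx _ (mem_cw_left P hb ?_)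
      rw [← hn]; exact self_mem_cosetOf P _
    have he : x * (b * (n.1 * t.1) * c) = x * (b * n.1) * (t.1 * c) := by group
    rw [he] at h
    rcases refl_mul_cw P h1 (mem_cw_right P hc (s_mem_cw P t)) with h2 | h2
    · have := eq_of_mem P h h2
      rw [mul_assoc, hL] at this
      exact refl_ne_one P s (mul_eq_right.mp this.symm)
    · have e := eq_of_mem P h h2
      have : refl P s * w = u := by rw [e, ← mul_assoc, refl_sq, one_mul]
      rw [this] at hle
      omega

theorem exists_mul_mem_refl (s : P.S) : ∃ b ∈ P.B, s.1 * b * s.1 ∈ cw P (refl P s) := by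
  by_contra hc
  push Not at hc
  have hsub : ∀ b ∈ P.B, s.1 * b * s.1 ∈ P.B := by
    intro b hb
    rcases mul_cw_refl P (mem_cw_right P hb (s_mem_cw P s)) (s_mem_cw P s) with h | h
    · rw [refl_sq] at h; exact (mem_B_iff_cw_one P).mpr h
    · exact absurd h (hc b hb)
  refine P.conj_ne s.1 s.2 (Set.eq_of_subset_of_subset (Set.image_subset_iff.mpr hsub) fun x hx => ?_)
  have hss := P.sq_mem s.1 s.2
  refine ⟨(s.1 * s.1)⁻¹ * (s.1 * x * s.1) * (s.1 * s.1)⁻¹,
    mul_mem (mul_mem (inv_mem hss) (hsub x hx)) (inv_mem hss), ?_⟩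
  group

/-- When the length drops, `C(s) n` meets `C(w)`. -/
theorem exists_mem_of_len_lt {s : P.S} {w : Weyl P} (h : len P (refl P s * w) < len P w)
    {n : P.N} (hn : QuotientGroup.mk n = w) : ∃ b ∈ P.B, s.1 * b * n.1 ∈ cw P w := by
  obtain ⟨b, hb, hbs⟩ := exists_mul_mem_refl P s
  refine ⟨b * (s.1 * s.1), mul_mem hb (P.sq_mem s.1 s.2), ?_⟩
  have hsn : s.1 * n.1 ∈ cw P (refl P s * w) := by
    rw [← hn, refl, ← QuotientGroup.mk_mul]; exact self_mem_cosetOf P _
  have := mul_of_len_ge P s _ _ le_rfl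
    (by rw [← mul_assoc, refl_sq, one_mul]; exact h.le) _ hbs _ hsn
  rw [← mul_assoc (refl P s), refl_sq, one_mul] at this
  convert this using 1
  group

theorem len_refl_mul_ne (s : P.S) (w : Weyl P) : len P (refl P s * w) ≠ len P w := by
  intro e
  obtain ⟨b, hb, hbs⟩ := exists_mul_mem_refl P s
  obtain ⟨n, hn⟩ := QuotientGroup.mk_surjective w
  have hnw : n.1 ∈ cw P w := by rw [← hn]; exact self_mem_cosetOf P _
  have h1 := mul_of_len_ge P s _ w le_rfl (by omega) _ hbs _ hnw
  have h2 := mul_of_len_ge P s _ w le_rfl (by omega) _ (s_mem_cw P s) _ hnw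
  have h3 := mul_of_len_ge P s _ (refl P s * w) le_rfl
    (by rw [← mul_assoc, refl_sq, one_mul]; omega) _ (mem_cw_right P hb (s_mem_cw P s)) _ h2
  rw [← mul_assoc (refl P s), refl_sq, one_mul] at h3
  have he : s.1 * b * s.1 * n.1 = s.1 * b * (s.1 * n.1) := by group
  rw [he] at h1
  exact refl_ne_one P s (mul_eq_right.mp (eq_of_mem P h1 h3))

/-- Exchange condition. -/
theorem exchange (s : P.S) : ∀ (L : List P.S), len P (wprod P L) = L.length →
    len P (refl P s * wprod P L) < L.length →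
    ∃ i < L.length, refl P s * wprod P L = wprod P (L.eraseIdx i) := by
  intro L
  induction L using List.reverseRecOn with
  | nil => intro _ h; simp at h
  | append_singleton v t ih =>
    intro hred hlt
    rw [List.length_append, List.length_singleton] at hred hlt ⊢
    have hlv : len P (wprod P v) = v.length := by
      refine le_antisymm (len_le P v) ?_
      obtain ⟨L', hL', hl'⟩ := exists_reduced P (wprod P v)
      have := len_le P (L' ++ [t])
      rw [wprod_append, hL', ← wprod_append, List.length_append, List.length_singleton] at this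
      omega
    set w := wprod P (v ++ [t]) with hw
    have hwt : w = wprod P v * refl P t := by rw [hw, wprod_append, wprod_cons, wprod_nil, mul_one]
    by_cases h : len P (refl P s * wprod P v) < v.length
    · obtain ⟨i, hi, e⟩ := ih hlv h
      refine ⟨i, by omega, ?_⟩
      rw [List.eraseIdx_append_of_lt_length hi, wprod_append, ← e, wprod_cons, wprod_nil, mul_one,
        hwt, mul_assoc]
    · refine ⟨v.length, by omega, ?_⟩
      obtain ⟨n, hn⟩ := QuotientGroup.mk_surjective (wprod P v)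
      have hnt : QuotientGroup.mk (n * (⟨t.1, P.subset t.2⟩ : P.N)) = w := by
        rw [QuotientGroup.mk_mul, hn, hwt]; rfl
      obtain ⟨b, hb, hm⟩ := exists_mem_of_len_lt P (s := s) (by omega) hnt
      have hnv : n.1 ∈ cw P (wprod P v) := by rw [← hn]; exact self_mem_cosetOf P _
      have h1 := mul_of_len_ge P s _ (wprod P v) le_rfl (by omega) _
        (mem_cw_right P hb (s_mem_cw P s)) _ hnv
      have h2 : s.1 * b * n.1 * t.1 ∈ cw P w := by
        convert hm using 1
        simp only [Subgroup.coe_mul]; group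
      rcases refl_mul_cw P h1 (s_mem_cw P t) with h3 | h3
      · have := eq_of_mem P h2 h3
        rw [mul_assoc, ← hwt] at this
        exact absurd (mul_eq_right.mp this.symm) (refl_ne_one P s)
      · have := eq_of_mem P h2 h3
        rw [List.eraseIdx_append_of_length_le le_rfl, Nat.sub_self]
        simp [this, ← mul_assoc, refl_sq]

/-- Union of the double cosets of a subgroup of `W` generated by `J` is the parabolic subgroup. -/
theorem mem_parabolic_iff {J : Set G} (hJ : J ⊆ P.S) (g : G) :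
    g ∈ P.parabolic J ↔ ∃ L : List P.S, (∀ s ∈ L, s.1 ∈ J) ∧ g ∈ cw P (wprod P L) := by
  constructor
  · intro hg
    rw [Cfsg.BNPair.parabolic, ← Subgroup.closure_eq P.B, ← Subgroup.closure_union] at hg
    induction hg using Subgroup.closure_induction_left with
    | one => exact ⟨[], by simp, (mem_B_iff_cw_one P).mp (one_mem _)⟩
    | mul_left x hx y hy ih =>
      obtain ⟨L, hL, hLy⟩ := ih
      rcases hx with hx | hx
      · exact ⟨L, hL, mem_cw_left P hx hLy⟩
      · rcases mul_cw_refl P (s_mem_cw P ⟨x, hJ hx⟩) hLy with h | h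
        · exact ⟨⟨x, hJ hx⟩ :: L, List.forall_mem_cons.mpr ⟨hx, hL⟩, by rwa [wprod_cons]⟩
        · exact ⟨L, hL, h⟩
    | inv_mul_cancel x hx y hy ih =>
      obtain ⟨L, hL, hLy⟩ := ih
      rcases hx with hx | hx
      · exact ⟨L, hL, mem_cw_left P (inv_mem hx) hLy⟩
      · have hx' : x⁻¹ ∈ cw P (refl P ⟨x, hJ hx⟩) := by
          have := inv_mem_cw P (s_mem_cw P ⟨x, hJ hx⟩); rwa [refl_inv] at this
        rcases mul_cw_refl P hx' hLy with h | h
        · exact ⟨⟨x, hJ hx⟩ :: L, List.forall_mem_cons.mpr ⟨hx, hL⟩, by rwa [wprod_cons]⟩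
        · exact ⟨L, hL, h⟩
  · rintro ⟨L, hL, hg⟩
    suffices h : ∃ n : P.N, n.1 ∈ P.parabolic J ∧ QuotientGroup.mk n = wprod P L by
      obtain ⟨n, hn, e⟩ := h
      rw [← e, cw_mk] at hg
      obtain ⟨b, hb, c, hc, rfl⟩ := (mem_cosetOf P).mp hg
      exact mul_mem (mul_mem (Subgroup.mem_sup_left hb) hn) (Subgroup.mem_sup_left hc)
    clear hg
    induction L with
    | nil => exact ⟨1, one_mem _, rfl⟩
    | cons s L ih =>
      obtain ⟨n, hn, e⟩ := ih fun t ht => hL t (List.mem_cons_of_mem _ ht)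
      refine ⟨⟨s.1, P.subset s.2⟩ * n, mul_mem (Subgroup.mem_sup_right
        (Subgroup.subset_closure (hL s (List.mem_cons_self ..)))) hn, ?_⟩
      rw [wprod_cons, QuotientGroup.mk_mul, e]
      rfl

theorem parabolic_univ : P.parabolic P.S = ⊤ := by
  rw [eq_top_iff, ← P.sup_eq_top]
  refine sup_le le_sup_left ?_
  rw [← P.closure_sup]
  exact sup_le le_sup_right (inf_le_left.trans le_sup_left)

theorem exists_mem_cw (g : G) : ∃ w, g ∈ cw P w := by
  obtain ⟨L, -, hL⟩ := (mem_parabolic_iff P le_rfl g).mp (by rw [parabolic_univ]; trivial)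
  exact ⟨_, hL⟩

/-- The letters of a reduced word of `n` lie in every overgroup of `B` and `n B n⁻¹`. -/
theorem letters_mem {M : Subgroup G} (hB : P.B ≤ M) : ∀ (L : List P.S) (n : P.N),
    QuotientGroup.mk n = wprod P L → len P (wprod P L) = L.length →
    (∀ b ∈ P.B, n.1 * b * n.1⁻¹ ∈ M) → (∀ s ∈ L, s.1 ∈ M) ∧ n.1 ∈ M := by
  intro L
  induction L with
  | nil =>
    intro n hn _ _
    refine ⟨by simp, hB ?_⟩
    rw [wprod_nil, QuotientGroup.eq_one_iff, Subgroup.mem_subgroupOf] at hn
    exact hn.1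
  | cons s L ih =>
    intro n hn hlen hM
    rw [List.length_cons] at hlen
    have hL : len P (wprod P L) = L.length := by
      refine le_antisymm (len_le P L) ?_
      have := len_refl_mul_le P s (wprod P L)
      rw [← wprod_cons] at this
      omega
    have hlt : len P (refl P s * wprod P (s :: L)) < len P (wprod P (s :: L)) := by
      rw [wprod_cons, ← mul_assoc, refl_sq, one_mul, ← wprod_cons]
      omega
    obtain ⟨b, hb, hm⟩ := exists_mem_of_len_lt P hlt hn
    rw [← hn, cw_mk] at hm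
    obtain ⟨c, hc, d, hd, e⟩ := (mem_cosetOf P).mp hm
    have hs : s.1 ∈ M := by
      have : s.1 = c * (n.1 * d * n.1⁻¹) * b⁻¹ := by
        calc s.1 = s.1 * b * n.1 * n.1⁻¹ * b⁻¹ := by group
        _ = c * n.1 * d * n.1⁻¹ * b⁻¹ := by rw [e]
        _ = _ := by group
      rw [this]
      exact mul_mem (mul_mem (hB hc) (hM d hd)) (inv_mem (hB hb))
    obtain ⟨h1, h2⟩ := ih ((⟨s.1, P.subset s.2⟩ : P.N)⁻¹ * n)
      (by
        rw [QuotientGroup.mk_mul, QuotientGroup.mk_inv, hn, wprod_cons]
        exact inv_mul_cancel_left _ _) hL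
      (fun x hx => by
        simp only [Subgroup.coe_mul, Subgroup.coe_inv]
        have := mul_mem (mul_mem (inv_mem hs) (hM x hx)) hs
        convert this using 1
        group)
    refine ⟨List.forall_mem_cons.mpr ⟨hs, h1⟩, ?_⟩
    have := mul_mem hs h2
    simpa using this

theorem eq_parabolic {M : Subgroup G} (hM : P.B ≤ M) : M = P.parabolic (P.S ∩ M) := by
  apply le_antisymm
  · intro g hg
    obtain ⟨w, hw⟩ := exists_mem_cw P g
    obtain ⟨L, rfl, hl⟩ := exists_reduced P w
    obtain ⟨n, hn⟩ := QuotientGroup.mk_surjective (wprod P L)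
    have hw' := hw
    rw [← hn, cw_mk] at hw'
    obtain ⟨b, hb, c, hc, rfl⟩ := (mem_cosetOf P).mp hw'
    have hnM : n.1 ∈ M := by
      have := mul_mem (mul_mem (inv_mem (hM hb)) hg) (inv_mem (hM hc))
      convert this using 1
      group
    obtain ⟨h1, -⟩ := letters_mem P hM L n hn hl.symm
      (fun x hx => mul_mem (mul_mem hnM (hM hx)) (inv_mem hnM))
    exact (mem_parabolic_iff P Set.inter_subset_left _).mpr ⟨L, fun s hs => ⟨s.2, h1 s hs⟩, hw⟩
  · exact sup_le hM ((Subgroup.closure_le _).mpr Set.inter_subset_right)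

/-- Every element of `W_J` has a reduced word in `J`. -/
theorem exists_reduced_mem {J : Set G} : ∀ (L : List P.S), (∀ s ∈ L, s.1 ∈ J) →
    ∃ R : List P.S, (∀ s ∈ R, s.1 ∈ J) ∧ wprod P R = wprod P L ∧
      len P (wprod P R) = R.length := by
  intro L
  induction L with
  | nil => intro _; exact ⟨[], by simp, rfl, len_one P⟩
  | cons s L ih =>
    intro hL
    obtain ⟨R, hR, e, hl⟩ := ih fun t ht => hL t (List.mem_cons_of_mem _ ht)
    by_cases hlt : len P (refl P s * wprod P R) < R.length
    · obtain ⟨i, hi, e'⟩ := exchange P s R hl hlt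
      refine ⟨R.eraseIdx i, fun t ht => hR t (List.mem_of_mem_eraseIdx ht), ?_, ?_⟩
      · rw [← e', e, wprod_cons]
      · refine le_antisymm (len_le P _) ?_
        rw [List.length_eraseIdx_of_lt hi, ← e']
        have := len_refl_mul_le P s (refl P s * wprod P R)
        rw [← mul_assoc, refl_sq, one_mul, hl] at this
        omega
    · refine ⟨s :: R, List.forall_mem_cons.mpr ⟨hL s (List.mem_cons_self ..), hR⟩,
        by rw [wprod_cons, e, wprod_cons], ?_⟩
      have h1 := len_refl_mul_le P s (wprod P R)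
      have h2 := len_refl_mul_ne P s (wprod P R)
      rw [wprod_cons, List.length_cons]
      omega

theorem mem_of_mem_parabolic {J : Set G} (hJ : J ⊆ P.S) {s : G} (hs : s ∈ P.S)
    (h : s ∈ P.parabolic J) : s ∈ J := by
  obtain ⟨L, hL, hsL⟩ := (mem_parabolic_iff P hJ s).mp h
  have e := eq_of_mem P (s_mem_cw P ⟨s, hs⟩) hsL
  obtain ⟨R, hR, hRe, hRl⟩ := exists_reduced_mem P L hL
  rw [← hRe] at e
  have h1 : R.length ≤ 1 := by
    rw [← hRl, ← e]
    simpa [wprod] using len_le P [⟨s, hs⟩]
  rcases R with - | ⟨t, R⟩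
  · exact absurd e (refl_ne_one P _)
  · obtain rfl : R = [] := List.eq_nil_of_length_eq_zero (by simp only [List.length_cons] at h1; omega)
    have : (⟨s, hs⟩ : P.S) = t := refl_injective P (by rw [e, wprod_cons, wprod_nil, mul_one])
    have := congrArg Subtype.val this
    simp only at this
    rw [this]
    exact hR t (by simp)

theorem mem_of_conj_le {M : Subgroup G} (hB : P.B ≤ M) (n : P.N)
    (h : ∀ b ∈ P.B, n.1 * b * n.1⁻¹ ∈ M) : n.1 ∈ M := by
  obtain ⟨L, hL, hl⟩ := exists_reduced P (QuotientGroup.mk n)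
  exact (letters_mem P hB L n hL.symm (by rw [hl, hL]) h).2

end CfsgLib.BN
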