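import Cfsg.Agent.BN.Bruhat
import Mathlib.GroupTheory.Coxeter.Basic

/-!
The Weyl group of a Tits system is a Coxeter group, by Matsumoto's argument from the exchange
condition; the Tits system of a doubly transitive group.
-/

set_option autoImplicit false
set_option linter.style.haveILetI false

namespace CfsgLib.BN

open Cfsg DoubleCoset
open scoped Pointwise

attribute [local instance] torus_normal

variable {G : Type*} [Group G] (P : Cfsg.BNPair G)

theorem len_refl_mul_cases (s : P.S) (w : Weyl P) :
    len P (refl P s * w) = len P w + 1 ∨ len P (refl P s * w) + 1 = len P w := by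
  have h1 := len_refl_mul_le P s w
  have h2 := len_refl_mul_le P s (refl P s * w)
  rw [← mul_assoc, refl_sq, one_mul] at h2
  have h3 := len_refl_mul_ne P s w
  omega

theorem neg_one_pow_len (L : List P.S) :
    ((-1 : ℤˣ)) ^ len P (wprod P L) = (-1) ^ L.length := by
  induction L with
  | nil => rw [wprod_nil, len_one]; rfl
  | cons s L ih =>
    rw [wprod_cons, List.length_cons, pow_succ, ← ih]
    rcases len_refl_mul_cases P s (wprod P L) with h | h
    · rw [h, pow_succ]
    · rw [← h, pow_succ, mul_assoc]; simp

/-- Parity of the length. -/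
noncomputable def sign : Weyl P →* ℤˣ where
  toFun w := (-1) ^ len P w
  map_one' := by rw [len_one]; rfl
  map_mul' x y := by
    obtain ⟨L, rfl⟩ := exists_word P x
    obtain ⟨L', rfl⟩ := exists_word P y
    rw [← wprod_append, neg_one_pow_len, neg_one_pow_len, neg_one_pow_len, List.length_append,
      pow_add]

theorem sign_refl (s : P.S) : sign P (refl P s) = -1 := by
  have := neg_one_pow_len P [s]
  simpa [wprod, sign] using this

/-- The Coxeter matrix of orders of products of simple reflections. -/
noncomputable def cox : CoxeterMatrix P.S where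
  M := Matrix.of fun i j => orderOf (refl P i * refl P j)
  isSymm := by
    ext i j
    simp only [Matrix.transpose_apply, Matrix.of_apply]
    rw [← orderOf_inv (refl P j * refl P i), mul_inv_rev, refl_inv, refl_inv]
  diagonal i := by simp [refl_sq]
  off_diagonal i j h e := by
    simp only [Matrix.of_apply] at e
    rw [orderOf_eq_one_iff, mul_eq_one_iff_inv_eq, refl_inv] at e
    exact h (refl_injective P e)

theorem liftable : CoxeterMatrix.IsLiftable (cox P) (refl P) := fun _ _ => pow_orderOf_eq_one _

/-- The canonical map from the Coxeter group. -/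
noncomputable def phi : (cox P).Group →* Weyl P :=
  (cox P).toCoxeterSystem.lift ⟨refl P, liftable P⟩

theorem phi_simple (i : P.S) : phi P ((cox P).simple i) = refl P i :=
  (cox P).toCoxeterSystem.lift_apply_simple (liftable P) i

/-- The product of a word in the Coxeter group. -/
noncomputable def cprod (L : List P.S) : (cox P).Group := (L.map (cox P).simple).prod

theorem cprod_cons (s : P.S) (L : List P.S) :
    cprod P (s :: L) = (cox P).simple s * cprod P L := by simp [cprod]

theorem cprod_append (L L' : List P.S) : cprod P (L ++ L') = cprod P L * cprod P L' := by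
  simp [cprod]

theorem phi_cprod (L : List P.S) : phi P (cprod P L) = wprod P L := by
  induction L with
  | nil => exact map_one _
  | cons s L ih => rw [cprod_cons, wprod_cons, map_mul, phi_simple, ih]

theorem simple_sq' (i : P.S) : (cox P).simple i * (cox P).simple i = 1 :=
  (cox P).toCoxeterSystem.simple_mul_simple_self i

theorem dihedral_eq {a b : P.S} {A : List P.S} (hA : ∀ t ∈ A, t = a ∨ t = b)
    (h : wprod P A = 1) : cprod P A = 1 := by
  suffices key : ∃ k : ℤ, cprod P A = ((cox P).simple a * (cox P).simple b) ^ k ∨
      cprod P A = ((cox P).simple a * (cox P).simple b) ^ k * (cox P).simple a by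
    obtain ⟨k, hk | hk⟩ := key
    · have h1 : (refl P a * refl P b) ^ k = 1 := by
        rw [← h, ← phi_cprod, hk, map_zpow, map_mul, phi_simple, phi_simple]
      rw [hk]
      obtain ⟨j, rfl⟩ : (orderOf (refl P a * refl P b) : ℤ) ∣ k :=
        orderOf_dvd_iff_zpow_eq_one.mpr h1
      have := (cox P).toCoxeterSystem.simple_mul_simple_pow a b
      rw [zpow_mul, zpow_natCast]
      change (((cox P).simple a * (cox P).simple b) ^ (cox P) a b) ^ j = 1
      rw [show ((cox P).simple a * (cox P).simple b) ^ (cox P) a b = 1 from this, one_zpow]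
    · exfalso
      have h1 := congrArg (sign P) h
      rw [← phi_cprod, hk, map_one] at h1
      simp [map_mul, map_zpow, phi_simple, sign_refl] at h1
  induction A with
  | nil => exact ⟨0, Or.inl rfl⟩
  | cons t A ih =>
    have hA' : ∀ x ∈ A, x = a ∨ x = b := fun x hx => hA x (List.mem_cons_of_mem _ hx)
    clear h
    suffices h2 : ∀ A : List P.S, (∀ x ∈ A, x = a ∨ x = b) → ∃ k : ℤ,
        cprod P A = ((cox P).simple a * (cox P).simple b) ^ k ∨
        cprod P A = ((cox P).simple a * (cox P).simple b) ^ k * (cox P).simple a from h2 _ hA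
    intro A
    induction A with
    | nil => exact fun _ => ⟨0, Or.inl rfl⟩
    | cons x A ih2 =>
      intro hx
      obtain ⟨k, hk⟩ := ih2 fun y hy => hx y (List.mem_cons_of_mem _ hy)
      set p := (cox P).simple a * (cox P).simple b with hp
      have ha : ∀ k : ℤ, (cox P).simple a * p ^ k = p ^ (-k) * (cox P).simple a := by
        intro k
        have h1 : SemiconjBy ((cox P).simple a) p p⁻¹ := by
          have e1 : ((cox P).simple a)⁻¹ = (cox P).simple a :=
            inv_eq_of_mul_eq_one_right (simple_sq' P a)
          have e2 : ((cox P).simple b)⁻¹ = (cox P).simple b :=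
            inv_eq_of_mul_eq_one_right (simple_sq' P b)
          rw [SemiconjBy, hp, mul_inv_rev, e1, e2, ← mul_assoc, simple_sq', one_mul, mul_assoc,
            simple_sq', mul_one]
        have := (h1.zpow_right k).eq
        rwa [inv_zpow'] at this
      have hb : (cox P).simple b = (cox P).simple a * p := by
        rw [hp, ← mul_assoc, simple_sq', one_mul]
      rcases hx x (List.mem_cons_self ..) with rfl | rfl <;> rcases hk with hk | hk <;>
        rw [cprod_cons, hk]
      · exact ⟨-k, Or.inr (ha k)⟩
      · exact ⟨-k, Or.inl (by rw [← mul_assoc, ha, mul_assoc, simple_sq', mul_one])⟩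
      · exact ⟨-(1 + k), Or.inr (by
          rw [hb, mul_assoc, ← ha, zpow_add, zpow_one])⟩
      · exact ⟨-(1 + k), Or.inl (by
          rw [hb, mul_assoc, ← mul_assoc p, show p * p ^ k = p ^ (1 + k) by rw [zpow_add, zpow_one],
            ← mul_assoc, ha, mul_assoc, simple_sq', mul_one])⟩

theorem reduced_tail {s : P.S} {L : List P.S}
    (h : len P (wprod P (s :: L)) = (s :: L).length) : len P (wprod P L) = L.length := by
  refine le_antisymm (len_le P L) ?_
  have := len_refl_mul_le P s (wprod P L)
  rw [← wprod_cons, h, List.length_cons] at this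
  omega

theorem reduced_unique : ∀ (k : ℕ) (L L' : List P.S), L.length = k →
    len P (wprod P L) = L.length → len P (wprod P L') = L'.length → wprod P L = wprod P L' →
    cprod P L = cprod P L' := by
  intro k
  induction k with
  | zero =>
    intro L L' hk h h' e
    obtain rfl := List.eq_nil_of_length_eq_zero hk
    rw [← e, h] at h'
    rw [List.eq_nil_of_length_eq_zero h'.symm]
  | succ k ih =>
    intro L L' hk h h' e
    have hk' : L'.length = k + 1 := by rw [← h', ← e, h, hk]
    obtain ⟨a, r, rfl⟩ := List.exists_cons_of_length_eq_add_one hk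
    obtain ⟨b, r', rfl⟩ := List.exists_cons_of_length_eq_add_one hk'
    simp only [List.length_cons, Nat.add_right_cancel_iff] at hk hk'
    have step : ∀ (c : P.S) (u u' : List P.S), u.length = k →
        len P (wprod P (c :: u)) = (c :: u).length → len P (wprod P (c :: u')) = (c :: u').length →
        wprod P (c :: u) = wprod P (c :: u') → cprod P (c :: u) = cprod P (c :: u') := by
      intro c u u' hu h1 h2 e'
      rw [cprod_cons, cprod_cons, ih u u' hu (reduced_tail P h1) (reduced_tail P h2)
        (by rw [wprod_cons, wprod_cons] at e'; exact mul_left_cancel e')]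
    have key : ∀ (j : ℕ) (d : P.S) (A R : List P.S), R.length = j →
        (∀ t ∈ d :: A, t = a ∨ t = b) → (d :: A ++ R).length = k + 1 →
        wprod P (d :: A ++ R) = wprod P (a :: r) → ∀ c : P.S, (c = a ∨ c = b) →
        len P (refl P c * wprod P (a :: r)) < k + 1 →
        ∃ v : List P.S, v.length = k ∧ wprod P (c :: v) = wprod P (a :: r) ∧
          cprod P (c :: v) = cprod P (d :: A ++ R) := by
      intro j
      induction j using Nat.strong_induction_on with
      | _ j ihj =>
        intro d A R hj hA hl hw c hc hlt
        have hlw : len P (wprod P (d :: A ++ R)) = (d :: A ++ R).length := by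
          rw [hw, h, hl, List.length_cons, hk]
        obtain ⟨i, hi, hie⟩ := exchange P c (d :: A ++ R) hlw (by rw [hw, hl]; exact hlt)
        have hw2 : wprod P (c :: (d :: A ++ R).eraseIdx i) = wprod P (a :: r) := by
          rw [wprod_cons, ← hie, ← mul_assoc, refl_sq, one_mul, hw]
        refine ⟨(d :: A ++ R).eraseIdx i, by rw [List.length_eraseIdx_of_lt hi, hl]; omega, hw2, ?_⟩
        by_cases hiA : i < (d :: A).length
        · rw [List.eraseIdx_append_of_lt_length hiA, cprod_cons, cprod_append, cprod_append,
            ← mul_assoc, mul_left_inj]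
          rw [List.eraseIdx_append_of_lt_length hiA, wprod_append, wprod_append, ← mul_assoc,
            mul_left_inj] at hie
          set A1 := (d :: A).eraseIdx i
          have hA1 : ∀ t ∈ A1, t = a ∨ t = b := fun t ht => hA t (List.mem_of_mem_eraseIdx ht)
          have h0 : wprod P ((c :: A1).reverse ++ (d :: A)) = 1 := by
            rw [wprod_append, wprod_reverse, wprod_cons, ← hie, ← mul_assoc (refl P c), refl_sq,
              one_mul, inv_mul_cancel]
          have h1 := dihedral_eq P (a := a) (b := b) (fun t ht => by
            rcases List.mem_append.mp ht with ht | ht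
            · rcases List.mem_cons.mp (List.mem_reverse.mp ht) with rfl | ht
              · exact hc
              · exact hA1 t ht
            · exact hA t ht) h0
          have hrev : ∀ B : List P.S, cprod P B.reverse = (cprod P B)⁻¹ := by
            intro B
            induction B with
            | nil => simp [cprod]
            | cons x B ihB =>
              rw [List.reverse_cons, cprod_append, ihB, cprod_cons P x B, mul_inv_rev]
              simp [cprod, inv_eq_of_mul_eq_one_right (simple_sq' P x)]
          rw [cprod_append, hrev, inv_mul_eq_one, cprod_cons] at h1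
          exact h1
        · rw [not_lt] at hiA
          rw [List.eraseIdx_append_of_length_le hiA] at hw2 ⊢
          set R1 := R.eraseIdx (i - (d :: A).length)
          have hR1 : R1.length = j - 1 := by
            rw [List.length_eraseIdx_of_lt]
            · rw [hj]
            · rw [List.length_append] at hi; omega
          have hRpos : 1 ≤ j := by rw [List.length_append] at hi; omega
          have hlt' : len P (refl P d * wprod P (a :: r)) < k + 1 := by
            rw [← hw, List.cons_append, wprod_cons, ← mul_assoc, refl_sq, one_mul]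
            have := len_le P (A ++ R)
            simp only [List.length_append, List.length_cons] at hl this
            omega
          obtain ⟨v, hv1, hv2, hv3⟩ := ihj (j - 1) (by omega) c (d :: A) R1 hR1
            (List.forall_mem_cons.mpr ⟨hc, hA⟩) (by
              simp only [List.length_append, List.length_cons] at hl ⊢; omega) hw2 d
            (hA d (List.mem_cons_self ..)) hlt'
          change cprod P (c :: d :: A ++ R1) = _
          rw [← hv3]
          exact step d v (A ++ R) hv1 (by rw [hv2, h, List.length_cons, List.length_cons, hv1, hk])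
            (by rw [List.cons_append] at hlw; exact hlw) (by rw [hv2, ← hw]; rfl)
    have hlt : len P (refl P b * wprod P (a :: r)) < k + 1 := by
      rw [e, wprod_cons, ← mul_assoc, refl_sq, one_mul]
      have := len_le P r'
      omega
    obtain ⟨v, hv1, hv2, hv3⟩ := key r.length a [] r rfl
      (fun t ht => Or.inl (by simpa using ht)) (by simp [hk]) rfl b (Or.inr rfl) hlt
    have hs := step b v r' hv1 (by rw [hv2, h, List.length_cons, List.length_cons, hv1, hk]) h'
      (hv2.trans e)
    rw [← hs, hv3]
    rfl

theorem cprod_eq_reduced : ∀ L : List P.S, ∃ R : List P.S,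
    len P (wprod P R) = R.length ∧ cprod P R = cprod P L := by
  intro L
  induction L with
  | nil => exact ⟨[], len_one P, rfl⟩
  | cons s L ih =>
    obtain ⟨R, hR, e⟩ := ih
    rw [cprod_cons, ← e]
    rcases len_refl_mul_cases P s (wprod P R) with h | h
    · exact ⟨s :: R, by rw [wprod_cons, h, hR, List.length_cons], cprod_cons P s R⟩
    · obtain ⟨i, hi, hie⟩ := exchange P s R hR (by omega)
      refine ⟨R.eraseIdx i, ?_, ?_⟩
      · rw [List.length_eraseIdx_of_lt hi, ← hie]; omega
      · have h2 := reduced_unique P R.length R (s :: R.eraseIdx i) rfl hR (by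
          rw [List.length_cons, List.length_eraseIdx_of_lt hi, wprod_cons, ← hie, ← mul_assoc,
            refl_sq, one_mul]
          omega) (by rw [wprod_cons, ← hie, ← mul_assoc, refl_sq, one_mul])
        rw [h2, cprod_cons, ← mul_assoc, simple_sq', one_mul]

theorem phi_bijective : Function.Bijective (phi P) := by
  constructor
  · rw [injective_iff_map_eq_one]
    intro x hx
    obtain ⟨L, rfl⟩ := (cox P).toCoxeterSystem.wordProd_surjective x
    change phi P (cprod P L) = 1 at hx
    change cprod P L = 1
    obtain ⟨R, hR, e⟩ := cprod_eq_reduced P L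
    rw [← e] at hx ⊢
    rw [phi_cprod] at hx
    rw [hx, len_one] at hR
    rw [List.eq_nil_of_length_eq_zero hR.symm]
    rfl
  · intro w
    obtain ⟨L, rfl⟩ := exists_word P w
    exact ⟨cprod P L, phi_cprod P L⟩

/-- The Weyl group as a Coxeter system. -/
noncomputable def coxeterSystem : CoxeterSystem (cox P) (Weyl P) :=
  ⟨(MulEquiv.ofBijective (phi P) (phi_bijective P)).symm⟩

theorem coxeterSystem_simple (s : P.S) : (coxeterSystem P).simple s = refl P s :=
  phi_simple P s

/-- The Tits system of a doubly transitive action. -/
theorem exists_rankOne {Γ Ω : Type*} [Group Γ] [MulAction Γ Ω]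
    (h2 : MulAction.IsMultiplyPretransitive Γ Ω 2) {x y z : Ω} (hxy : x ≠ y) (hyz : y ≠ z)
    (hxz : x ≠ z) :
    ∃ Q : Cfsg.BNPair Γ, Q.B = MulAction.stabilizer Γ x ∧
      Q.N = MulAction.stabilizer Γ ({x, y} : Set Ω) ∧ Q.rank = 1 := by
  rw [MulAction.is_two_pretransitive_iff] at h2
  obtain ⟨s, hsx, hsy⟩ := h2 hxy hxy.symm
  set B := MulAction.stabilizer Γ x with hB
  set N := MulAction.stabilizer Γ ({x, y} : Set Ω) with hN
  have hsN : s ∈ N := by
    rw [hN, MulAction.mem_stabilizer_iff, Set.smul_set_insert, Set.smul_set_singleton, hsx, hsy,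
      Set.pair_comm]
  have hNmem : ∀ n ∈ N, n • x = x ∧ n • y = y ∨ n • x = y ∧ n • y = x := by
    intro n hn
    rw [hN, MulAction.mem_stabilizer_iff, Set.smul_set_insert, Set.smul_set_singleton,
      Set.pair_eq_pair_iff] at hn
    exact hn
  have hsB : s ∉ B := fun h => hxy (h.symm.trans hsx)
  have hdc : ∀ g, g ∈ B ∨ g ∈ DoubleCoset.doubleCoset s (B : Set Γ) B := by
    intro g
    by_cases hg : g • x = x
    · exact Or.inl hg
    · right
      obtain ⟨b, hb1, hb2⟩ := h2 hxy (Ne.symm hg)
      refine DoubleCoset.mem_doubleCoset.mpr ⟨b, hb1, (b * s)⁻¹ * g, ?_, by group⟩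
      change ((b * s)⁻¹ * g) • x = x
      rw [mul_smul, inv_smul_eq_iff, mul_smul, hsx, hb2]
  have hdeq : ∀ a ∈ B, ∀ c ∈ B, DoubleCoset.doubleCoset (a * s * c) (B : Set Γ) B =
      DoubleCoset.doubleCoset s (B : Set Γ) B := fun a ha c hc =>
    DoubleCoset.doubleCoset_eq_of_mem (DoubleCoset.mem_doubleCoset.mpr ⟨a, ha, c, hc, rfl⟩)
  have hself : ∀ a ∈ B, ∀ g ∈ B, g ∈ DoubleCoset.doubleCoset a (B : Set Γ) B := fun a ha g hg =>
    DoubleCoset.mem_doubleCoset.mpr ⟨g * a⁻¹, mul_mem hg (inv_mem ha), 1, one_mem _, by group⟩
  refine ⟨
    { B := B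
      N := N
      S := {s}
      sup_eq_top := ?_
      conj_mem := ?_
      subset := Set.singleton_subset_iff.mpr hsN
      sq_mem := by
        rintro t rfl
        change (t * t) • x = x
        rw [mul_smul, hsx, hsy]
      inj := by rintro t rfl t' rfl _; rfl
      closure_sup := ?_
      mul_mem_union := ?_
      conj_ne := ?_ }, rfl, rfl, by simp [Cfsg.BNPair.rank]⟩
  · rw [eq_top_iff]
    intro g _
    rcases hdc g with h | h
    · exact Subgroup.mem_sup_left h
    · obtain ⟨a, ha, c, hc, rfl⟩ := DoubleCoset.mem_doubleCoset.mp h
      exact mul_mem (mul_mem (Subgroup.mem_sup_left ha) (Subgroup.mem_sup_right hsN))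
        (Subgroup.mem_sup_left hc)
  · intro n hn t ht
    change (n * t * n⁻¹) • x = x
    have hty : t • y = y := by
      rcases hNmem t ht.2 with h | h
      · exact h.2
      · exact absurd (ht.1.symm.trans h.1) hxy
    have htx : t • x = x := ht.1
    rcases hNmem n hn with h | h
    · have : n⁻¹ • x = x := by rw [inv_smul_eq_iff, h.1]
      rw [mul_smul, mul_smul, this, htx, h.1]
    · have : n⁻¹ • x = y := by rw [inv_smul_eq_iff, h.2]
      rw [mul_smul, mul_smul, this, hty, h.2]
  · refine le_antisymm (sup_le ((Subgroup.closure_le _).mpr (Set.singleton_subset_iff.mpr hsN))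
      inf_le_right) ?_
    intro n hn
    rcases hNmem n hn with h | h
    · exact Subgroup.mem_sup_right ⟨h.1, hn⟩
    · have hd : s⁻¹ * n ∈ B ⊓ N := by
        refine ⟨?_, N.mul_mem (N.inv_mem hsN) hn⟩
        change (s⁻¹ * n) • x = x
        rw [mul_smul, h.1, inv_smul_eq_iff, hsx]
      have := mul_mem (Subgroup.mem_sup_left (Subgroup.subset_closure rfl) :
        s ∈ Subgroup.closure {s} ⊔ (B ⊓ N)) (Subgroup.mem_sup_right hd)
      rwa [mul_inv_cancel_left] at this
  · rintro t rfl n hn b hb
    by_cases hnB : n ∈ B
    · rcases hdc (t * b * n) with h | h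
      · exact Or.inr (hself n hnB _ h)
      · left
        have := hdeq 1 (one_mem _) n hnB
        rw [one_mul] at this
        rwa [this]
    · have hn' : n • x = y := by
        rcases hNmem n hn with h | h
        · exact absurd h.1 hnB
        · exact h.1
      have htn : t * n ∈ B := by change (t * n) • x = x; rw [mul_smul, hn', hsy]
      rcases hdc (t * b * n) with h | h
      · exact Or.inl (hself _ htn _ h)
      · right
        have hd : t⁻¹ * n ∈ B := by
          change (t⁻¹ * n) • x = x
          rw [mul_smul, hn', inv_smul_eq_iff, hsx]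
        have := hdeq 1 (one_mem _) _ hd
        rw [one_mul, mul_inv_cancel_left] at this
        rwa [this]
  · rintro t rfl e
    obtain ⟨b, hbx, hby⟩ := h2 hxy hxz
    have hm : t * b * t ∈ (B : Set Γ) := by rw [← e]; exact ⟨b, hbx, rfl⟩
    have hm' : (t * b * t) • x = x := hm
    rw [mul_smul, mul_smul, hsx, hby, ← eq_inv_smul_iff] at hm'
    have : t⁻¹ • x = y := by rw [inv_smul_eq_iff, hsy]
    exact hyz (this.symm.trans hm'.symm)

end CfsgLib.BN
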