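import Cfsg.Agent.BN.Parabolic

/-!
Normal subgroups of a group with an irreducible Tits system: the part of Tits' simplicity criterion
that needs neither perfectness nor solvability of the Borel subgroup.
-/

set_option autoImplicit false
set_option linter.style.haveILetI false

namespace CfsgLib.BN

open Cfsg DoubleCoset
open scoped Pointwise

attribute [local instance] torus_normal

variable {G : Type*} [Group G] (P : Cfsg.BNPair G)

/-- A normal subgroup lies in the Borel subgroup or supplements it. -/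
theorem le_borel_or_sup_eq_top (hirr : P.Irreducible) (K : Subgroup G) [hK : K.Normal] :
    K ≤ P.B ∨ P.B ⊔ K = ⊤ := by
  set M := P.B ⊔ K with hMdef
  have hM : P.B ≤ M := le_sup_left
  set J := P.S ∩ (M : Set G) with hJdef
  have hMJ : M = P.parabolic J := eq_parabolic P hM
  rcases J.eq_empty_or_nonempty with hJ | hJ
  · left
    have h1 : K ≤ M := le_sup_right
    rw [hMJ, hJ] at h1
    simpa [Cfsg.BNPair.parabolic] using h1
  rcases (P.S \ J).eq_empty_or_nonempty with hd | hd
  · right
    have hJS : J = P.S :=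
      Set.eq_of_subset_of_subset Set.inter_subset_left (Set.sdiff_eq_empty.mp hd)
    rw [hMJ, hJS, parabolic_univ]
  · exfalso
    obtain ⟨s, hsJ, t, ht, hst⟩ := hirr J Set.inter_subset_left hJ hd
    have hs : s ∈ P.S := hsJ.1
    have htM : t ∉ M := fun h => ht.2 ⟨ht.1, h⟩
    set σ := refl P ⟨s, hs⟩ with hσ
    set τ := refl P ⟨t, ht.1⟩ with hτ
    obtain ⟨k, hk, hks⟩ : ∃ k ∈ K, k ∈ cw P σ := by
      obtain ⟨b, hb, k, hk, e⟩ := Subgroup.mem_sup_of_normal_right.mp (hsJ.2 : s ∈ P.B ⊔ K)
      refine ⟨k, hk, ?_⟩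
      have h1 : k = b⁻¹ * s := by rw [← e, inv_mul_cancel_left]
      rw [h1]
      exact mem_cw_left P (inv_mem hb) (s_mem_cw P ⟨s, hs⟩)
    have hconj : t * k * t⁻¹ ∈ M := Subgroup.mem_sup_right (hK.conj_mem k hk t)
    rw [hMJ] at hconj
    obtain ⟨L, hL, hmem⟩ := (mem_parabolic_iff P Set.inter_subset_left _).mp hconj
    obtain ⟨n, hn⟩ := QuotientGroup.mk_surjective (wprod P L)
    have hnot : ∀ L' : List P.S, (∀ s ∈ L', s.1 ∈ J) → τ * σ ≠ wprod P L' := by
      intro L' hL' e
      apply htM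
      have : t * s ∈ P.parabolic J := (mem_parabolic_iff P Set.inter_subset_left _).mpr
        ⟨L', hL', by
          rw [← e, hτ, hσ, refl, refl, ← QuotientGroup.mk_mul]; exact self_mem_cosetOf P _⟩
      rw [← hMJ] at this
      exact (Subgroup.mul_mem_cancel_right _ hsJ.2).mp this
    have hτs : τ * σ ≠ 1 := fun e => hnot [] (by simp) e
    have hle : len P σ ≤ 1 := by simpa [wprod, hσ] using len_le P [⟨s, hs⟩]
    have h2 : len P σ ≤ len P (τ * σ) := by
      rcases Nat.eq_zero_or_pos (len P (τ * σ)) with h0 | h0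
      · exact absurd (eq_one_of_len P h0) hτs
      · omega
    have htk : t * k ∈ cw P (τ * σ) :=
      mul_of_len_ge P ⟨t, ht.1⟩ _ σ le_rfl h2 _ (s_mem_cw P _) _ hks
    have htinv : t⁻¹ ∈ cw P τ := by
      have := inv_mem_cw P (s_mem_cw P ⟨t, ht.1⟩); rwa [refl_inv] at this
    rcases refl_mul_cw P htk htinv with h3 | h3
    swap
    · exact hnot L hL (eq_of_mem P h3 hmem)
    have e : τ * σ * τ = wprod P L := eq_of_mem P h3 hmem
    -- a reduced word of `τ σ τ` has letters in `J`
    obtain ⟨R, hR, hRe, hRl⟩ := exists_reduced_mem P L hL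
    rw [← hRe] at e
    have hl3 : len P (τ * σ * τ) ≠ 3 := by
      intro h3'
      have e' : τ * σ * τ = wprod P [⟨t, ht.1⟩, ⟨s, hs⟩, ⟨t, ht.1⟩] := by
        simp [wprod, hσ, hτ, mul_assoc]
      obtain ⟨m, hm⟩ := QuotientGroup.mk_surjective (τ * σ * τ)
      have hmM : m.1 ∈ M := by
        rw [hMJ]
        refine (mem_parabolic_iff P Set.inter_subset_left _).mpr ⟨R, hR, ?_⟩
        rw [← e, ← hm]; exact self_mem_cosetOf P _
      have := (letters_mem P hM _ m (by rw [hm, e']) (by rw [← e']; exact h3')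
        (fun x hx => mul_mem (mul_mem hmM (hM hx)) (inv_mem hmM))).1 ⟨t, ht.1⟩
        (List.mem_cons_self ..)
      exact htM this
    -- exchange
    set w := wprod P [⟨s, hs⟩, ⟨t, ht.1⟩] with hw
    have hwe : w = σ * τ := by simp [hw, wprod, hσ, hτ]
    have hwl : len P w = 2 := by
      have h1 : len P w ≤ 2 := len_le P [⟨s, hs⟩, ⟨t, ht.1⟩]
      rcases Nat.lt_or_ge (len P w) 2 with h | h
      · exfalso
        have h5 := len_refl_mul_ne P ⟨s, hs⟩ w
        rw [hwe, ← hσ, ← mul_assoc, hσ, refl_sq, one_mul, ← hσ, ← hwe] at h5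
        have h6 : len P τ ≤ 1 := by simpa [wprod, hτ] using len_le P [⟨t, ht.1⟩]
        have h7 : len P τ ≠ 0 := fun h => refl_ne_one P _ (eq_one_of_len P h)
        have h8 : len P w ≠ 0 := fun h' => by
          have h9 := eq_one_of_len P h'
          rw [hwe, mul_eq_one_iff_inv_eq, hσ, refl_inv, hτ] at h9
          have h10 : s = t := congrArg Subtype.val (refl_injective P h9)
          exact htM (h10 ▸ hsJ.2)
        omega
      · omega
    have h4 : len P (τ * w) < 2 := by
      have h1 := len_refl_mul_ne P ⟨t, ht.1⟩ w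
      have h2' := len_refl_mul_le P ⟨t, ht.1⟩ w
      rw [← hτ, hwe, ← mul_assoc] at h1 h2'
      rw [hwe, ← mul_assoc]
      rw [← hwe] at h1 h2'
      omega
    obtain ⟨i, hi, he⟩ := exchange P ⟨t, ht.1⟩ [⟨s, hs⟩, ⟨t, ht.1⟩] hwl h4
    rw [← hw, ← hτ, hwe] at he
    have hi' : i = 0 ∨ i = 1 := by simp only [List.length_cons, List.length_nil] at hi; omega
    rcases hi' with rfl | rfl
    · simp only [List.eraseIdx_cons_zero, wprod_cons, wprod_nil, mul_one, ← hτ] at he
      rw [← mul_assoc] at he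
      exact hτs (mul_eq_right.mp he)
    · simp only [List.eraseIdx_cons_succ, List.eraseIdx_cons_zero, wprod_cons, wprod_nil,
        mul_one, ← hσ] at he
      apply hst
      have h9 : σ * τ * σ⁻¹ * τ⁻¹ = 1 := by
        rw [hσ, hτ, refl_inv, refl_inv, ← hσ, ← hτ]
        calc σ * τ * σ * τ = σ * (τ * (σ * τ)) := by group
        _ = 1 := by rw [he, hσ, refl_sq]
      rw [hσ, hτ, refl, refl, ← QuotientGroup.mk_inv, ← QuotientGroup.mk_inv,
        ← QuotientGroup.mk_mul, ← QuotientGroup.mk_mul, ← QuotientGroup.mk_mul,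
        QuotientGroup.eq_one_iff, Subgroup.mem_subgroupOf] at h9
      exact h9.1

end CfsgLib.BN
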